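import Groth.Prelude.Def_W4bk6serrecg25LocSym
import Groth.Agent.JacLib.Field
import Groth.Agent.JacLib.RatTwist
import Groth.Agent.CurveFF.Div
import Groth.Agent.CurveFF.Point
import Groth.Agent.FF.Places
import Groth.Agent.FF.Degree
import Mathlib.RingTheory.OrderOfVanishing.Noetherian
import Mathlib.AlgebraicGeometry.AlgClosed.Basic

/-!
# Rational points, orders and places of a curve over an algebraically closed field
-/

set_option autoImplicit false
set_option backward.isDefEq.respectTransparency false
set_option backward.isDefEq.respectTransparency.types false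
set_option linter.style.haveILetI false
set_option maxHeartbeats 1000000

universe v u

open CategoryTheory CategoryTheory.Limits AlgebraicGeometry TopologicalSpace

noncomputable section

namespace Groth.Agent.LocSymLib

attribute [local instance] Curv2.stalkAlgebra
attribute [local instance high] FunFld.Place.algRes

variable {k : Type u} [Field k] [IsAlgClosed k] {X : Scheme.{u}} [X.Over (Spec (CommRingCat.of k))]
  [IsProper (X ↘ Spec (CommRingCat.of k))] [IsIntegral X]

local notation "c" => (X ↘ Spec (CommRingCat.of k))

theorem isClosed_pt (x : LocSym.Pt c) : IsClosed ({x.pt} : Set X) :=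
  CurveFF.isClosed_point_of_section x.1 x.2

theorem pt_injective : Function.Injective (LocSym.Pt.pt : LocSym.Pt c → X) := fun x y h =>
  Subtype.ext (ext_of_apply_closedPoint_eq c x.2 y.2 h)

variable [Smooth (X ↘ Spec (CommRingCat.of k))] (hdim : topologicalKrullDim X = 1)

include hdim in
theorem setup : VBLib.IsRegCurve X ∧ Module.finrank k (Coh.HH X (Coh.structureModule X) 0) = 1 :=
  JacLib.setup_sepClosed (k := k) hdim

include hdim in
theorem isFF [VBLib.IsRegCurve X] : FunFld.IsFunctionField k X.functionField :=
  CurveFF.isFunctionField k hdim (setup (k := k) hdim).2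

variable [VBLib.IsRegCurve X]

variable (x : LocSym.Pt (X ↘ Spec (CommRingCat.of k)))

/-- The place of a rational point. -/
def plc : FunFld.Place k X.functionField := CurveFF.placeOf k hdim x.pt (isClosed_pt x)

theorem plc_injective : Function.Injective (plc (k := k) hdim) := fun x y h =>
  pt_injective (CurveFF.placeOf_injective hdim (isClosed_pt x) (isClosed_pt y) h)

theorem plc_surjective : Function.Surjective (plc (k := k) hdim) := fun P => by
  obtain ⟨z, hz, rfl⟩ := CurveFF.placeOf_surjective hdim P
  refine ⟨⟨pointOfClosedPoint c z hz, pointOfClosedPoint_comp c z hz⟩, ?_⟩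
  unfold plc
  congr 1
  exact pointOfClosedPoint_apply c z hz _

include hdim in
theorem ord_eq (g : X.functionField) : x.ord g = (plc hdim x).ord g := by
  haveI := CurveFF.isDVR k hdim (isClosed_pt x)
  have h : IsNoetherianRing (X.presheaf.stalk x.pt) ∧ Ring.KrullDimLE 1 (X.presheaf.stalk x.pt) ∧
      Nontrivial (X.presheaf.stalk x.pt) ∧ IsFractionRing (X.presheaf.stalk x.pt) X.functionField :=
    ⟨inferInstance, inferInstance, inferInstance, inferInstance⟩
  rw [LocSym.Pt.ord, CycAlg.ordFrac, dif_pos h, Ring.ordFrac_eq_valuation_inv]
  show _ = -WithZero.log ((IsDiscreteValuationRing.maximalIdeal (X.presheaf.stalk x.pt)).valuation X.functionField g)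
  generalize (IsDiscreteValuationRing.maximalIdeal (X.presheaf.stalk x.pt)).valuation X.functionField g = w
  cases w using WithZero.recZeroCoe with
  | zero => simp
  | coe a =>
    rw [← WithZero.coe_inv]
    rfl

include hdim in
theorem ord_zero : x.ord (0 : X.functionField) = 0 := by rw [ord_eq hdim, FF.ord_zero]

include hdim in
theorem ord_one : x.ord (1 : X.functionField) = 0 := by rw [ord_eq hdim, FF.ord_one]

include hdim in
theorem ord_mul {g h : X.functionField} (hg : g ≠ 0) (hh : h ≠ 0) : x.ord (g * h) = x.ord g + x.ord h := by
  simp only [ord_eq hdim, FF.ord_mul _ hg hh]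

include hdim in
theorem ord_inv (g : X.functionField) : x.ord g⁻¹ = -x.ord g := by
  simp only [ord_eq hdim, FF.ord_inv]

theorem constFun_eq : LocSym.constFun (c : X ⟶ _) = algebraMap k X.functionField := rfl

include hdim in
theorem ord_const (a : k) : x.ord (LocSym.constFun c a) = 0 := by
  rw [constFun_eq, ord_eq hdim, FF.ord_algebraMap]

include hdim in
theorem finite_ord_ne_zero (g : X.functionField) : {y : LocSym.Pt c | y.ord g ≠ 0}.Finite := by
  have h := FF.finite_support (isFF (k := k) hdim) g
  refine (h.preimage (plc_injective (k := k) hdim).injOn).subset fun y hy => ?_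
  simpa [ord_eq hdim] using hy

omit [VBLib.IsRegCurve X] in
include hdim in
theorem finite_ord_ne_zero' (g : X.functionField) : {y : LocSym.Pt c | y.ord g ≠ 0}.Finite :=
  haveI := (setup (k := k) hdim).1
  finite_ord_ne_zero hdim g

variable {G : Type v} [CommGroup G]

include hdim in
omit [VBLib.IsRegCurve X] in
theorem finite_evalDiv (m : LocSym.Pt c →₀ ℕ) (f : LocSym.Pt c → G) (g : X.functionField) [DecidablePred (· ∈ m.support)] :
    (Function.mulSupport fun y : LocSym.Pt c => if y ∈ m.support then (1 : G) else f y ^ y.ord g).Finite := by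
  refine (finite_ord_ne_zero' hdim g).subset fun y hy h => hy ?_
  show (if y ∈ m.support then (1 : G) else f y ^ y.ord g) = 1
  rw [h, zpow_zero, ite_self]

include hdim in
/-- Simultaneous approximation at finitely many rational points. -/
theorem exists_approx (S : Finset (LocSym.Pt c)) (g : LocSym.Pt c → X.functionField)
    (n : LocSym.Pt c → ℕ) : ∃ z : X.functionField, ∀ y ∈ S, z = g y ∨ (n y : ℤ) ≤ y.ord (z - g y) := by
  classical
  obtain ⟨z, hz⟩ := FF.approx (S.image (plc (k := k) hdim)) (fun P => g (Function.surjInv (plc_surjective (k := k) hdim) P))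
    (fun P => -(n (Function.surjInv (plc_surjective (k := k) hdim) P) : ℤ))
  refine ⟨z, fun y hy => ?_⟩
  have hy' : Function.surjInv (plc_surjective (k := k) hdim) (plc hdim y) = y :=
    plc_injective (k := k) hdim (Function.surjInv_eq (plc_surjective (k := k) hdim) _)
  have h := hz (plc hdim y) (Finset.mem_image_of_mem _ hy)
  simp only [hy'] at h
  by_cases he : z - g y = 0
  · exact Or.inl (sub_eq_zero.1 he)
  · rw [FF.v_le_exp_iff _ he, neg_neg, ← ord_eq hdim] at h
    exact Or.inr h

end Groth.Agent.LocSymLib
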