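import Groth.Agent.LocSymLib.Tame
import Groth.Prelude.Def_W4c1etcurveeff2PicMod

/-!
# The generalised Picard group of a reduced modulus
-/

set_option autoImplicit false
set_option backward.isDefEq.respectTransparency false
set_option backward.isDefEq.respectTransparency.types false
set_option linter.style.haveILetI false
set_option maxHeartbeats 1000000

universe u

open CategoryTheory CategoryTheory.Limits AlgebraicGeometry TopologicalSpace W4c1etcurveeff2

noncomputable section

namespace Groth.Agent.LocSymLib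

attribute [local instance] Curv2.stalkAlgebra
attribute [local instance high] FunFld.Place.algRes

variable {k : Type u} [Field k] [IsAlgClosed k] {X : Scheme.{u}} [X.Over (Spec (CommRingCat.of k))]
  [IsProper (X ↘ Spec (CommRingCat.of k))] [IsIntegral X]
  [Smooth (X ↘ Spec (CommRingCat.of k))] [VBLib.IsRegCurve X] (hdim : topologicalKrullDim X = 1)

local notation "c" => (X ↘ Spec (CommRingCat.of k))

include hdim in
theorem isVal_pow {x : LocSym.Pt c} {g : X.functionField} {a : k} (h : LocSym.HasValueAt x g a) (n : ℕ) :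
    LocSym.HasValueAt x (g ^ n) (a ^ n) := by
  rw [hasValueAt_iff hdim] at h ⊢
  induction n with
  | zero => rw [pow_zero, pow_zero]; exact TameRecLib.isVal_one
  | succ n ih => rw [pow_succ, pow_succ]; exact ih.mul h

include hdim in
theorem hasValueAt_mul {x : LocSym.Pt c} {g h : X.functionField} {a b : k} (hg : LocSym.HasValueAt x g a)
    (hh : LocSym.HasValueAt x h b) : LocSym.HasValueAt x (g * h) (a * b) := by
  rw [hasValueAt_iff hdim] at hg hh ⊢
  exact hg.mul hh

include hdim in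
theorem hasValueAt_inv {x : LocSym.Pt c} {g : X.functionField} {a : kˣ} (hg : LocSym.HasValueAt x g (a : k)) :
    LocSym.HasValueAt x g⁻¹ ((a⁻¹ : kˣ) : k) := by
  obtain ⟨e1, e2⟩ := uval_eq_of_hasValueAt hdim hg
  rw [hasValueAt_iff hdim]
  have e3 := TameRecLib.isVal_uval (isFF (k := k) hdim) (show (plc hdim x).1 g⁻¹ = 1 by rw [map_inv₀, e2, inv_one])
  rwa [TameRecLib.uval_inv (isFF (k := k) hdim) e2, e1] at e3

include hdim in
theorem hasValueAt_unique {x : LocSym.Pt c} {g : X.functionField} {a b : k} (ha : LocSym.HasValueAt x g a)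
    (hb : LocSym.HasValueAt x g b) : a = b :=
  ((hasValueAt_iff hdim x g a).1 ha).unique ((hasValueAt_iff hdim x g b).1 hb)

include hdim in
theorem hasValueAt_const (x : LocSym.Pt c) (a : k) : LocSym.HasValueAt x (algebraMap k X.functionField a) a := by
  rw [hasValueAt_iff hdim]
  exact TameRecLib.isVal_algebraMap a

include hdim in
theorem ne_zero_ord_of_hasValueAt {x : LocSym.Pt c} {g : X.functionField} {a : kˣ}
    (h : LocSym.HasValueAt x g (a : k)) : g ≠ 0 ∧ x.ord g = 0 := by
  have h2 := (uval_eq_of_hasValueAt hdim h).2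
  have hg : g ≠ 0 := fun h0 => by simp [h0] at h2
  exact ⟨hg, by rw [ord_eq hdim]; exact (TameRecLib.v_eq_one_iff hg).1 h2⟩

variable (m : LocSym.Pt (X ↘ Spec (CommRingCat.of k)) →₀ ℕ) (hm : ∀ x, m x ≤ 1)

include hdim hm in
theorem cong_iff (g : X.functionField) {x : LocSym.Pt c} (hx : x ∈ m.support) :
    LocSym.Cong1At m x g ↔ LocSym.HasValueAt x g ((1 : kˣ) : k) := by
  have hmx : m x = 1 := le_antisymm (hm x) (one_le_of_mem hdim m hx)
  rw [hasValueAt_iff hdim, Units.val_one, TameRecLib.isVal_one_iff, LocSym.Cong1At, hmx, ord_eq hdim,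
    ← Valuation.map_neg, neg_sub, Nat.cast_one]
  by_cases h : (1 : X.functionField) - g = 0
  · rw [h, map_zero]; exact iff_of_true (Or.inl (sub_eq_zero.1 h).symm) zero_lt_one
  · rw [FF.v_lt_one_iff _ h]
    exact ⟨fun h' => by rcases h' with h' | h'; exacts [absurd (by rw [h', sub_self]) h, by omega],
      fun h' => Or.inr (by omega)⟩

include hdim in
theorem exists_div_of_mem_principal {D : LocSym.Pt c →₀ ℤ} (hD : D ∈ principal c) :
    ∃ g, IsDivOf c D g := by
  induction hD using AddSubgroup.closure_induction with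
  | mem D h => exact h
  | zero => exact ⟨1, one_ne_zero, fun x => (ord_one hdim x).symm⟩
  | add D E _ _ hD hE =>
    obtain ⟨g, hg, hgD⟩ := hD
    obtain ⟨h, hh, hhE⟩ := hE
    exact ⟨g * h, mul_ne_zero hg hh, fun x => by rw [Finsupp.add_apply, hgD, hhE, ord_mul hdim x hg hh]⟩
  | neg D _ hD =>
    obtain ⟨g, hg, hgD⟩ := hD
    exact ⟨g⁻¹, inv_ne_zero hg, fun x => by rw [Finsupp.neg_apply, hgD, ord_inv hdim]⟩

include hdim hm in
theorem exists_div_of_mem_principalMod {D : divAway c m} (hD : D ∈ principalMod c m) :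
    ∃ g, IsDivOf c (D : LocSym.Pt c →₀ ℤ) g ∧ ∀ x ∈ m.support, LocSym.HasValueAt x g ((1 : kˣ) : k) := by
  induction hD using AddSubgroup.closure_induction with
  | mem D h => obtain ⟨g, hg, hg1⟩ := h; exact ⟨g, hg, fun x hx => (cong_iff hdim m hm g hx).1 (hg1 x hx)⟩
  | zero =>
    exact ⟨1, ⟨one_ne_zero, fun x => (ord_one hdim x).symm⟩, fun x _ => by
      simpa using hasValueAt_const hdim x 1⟩
  | add D E _ _ hD hE =>
    obtain ⟨g, ⟨hg, hgD⟩, hg1⟩ := hD
    obtain ⟨h, ⟨hh, hhE⟩, hh1⟩ := hE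
    exact ⟨g * h, ⟨mul_ne_zero hg hh, fun x => by
      rw [AddSubgroup.coe_add, Finsupp.add_apply, hgD, hhE, ord_mul hdim x hg hh]⟩,
      fun x hx => by simpa using hasValueAt_mul hdim (hg1 x hx) (hh1 x hx)⟩
  | neg D _ hD =>
    obtain ⟨g, ⟨hg, hgD⟩, hg1⟩ := hD
    exact ⟨g⁻¹, ⟨inv_ne_zero hg, fun x => by
      rw [AddSubgroup.coe_neg, Finsupp.neg_apply, hgD, ord_inv hdim]⟩,
      fun x hx => by simpa using hasValueAt_inv hdim (hg1 x hx)⟩

include hdim in
theorem exists_values (v : LocSym.Pt c → kˣ) :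
    ∃ (g : X.functionField) (D : divAway c m), IsDivOf c (D : LocSym.Pt c →₀ ℤ) g ∧
      ∀ x ∈ m.support, LocSym.HasValueAt x g (v x : k) := by
  classical
  obtain ⟨z, hz⟩ := exists_approx hdim m.support (fun x => LocSym.constFun c (v x : k)) fun _ => 1
  let g : X.functionField := if m.support = ∅ then 1 else z
  have hg : ∀ x ∈ m.support, LocSym.HasValueAt x g (v x : k) := by
    intro x hx
    simp only [g, if_neg (Finset.ne_empty_of_mem hx)]
    exact (hz x hx).imp id fun h => by omega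
  have hg0 : g ≠ 0 := by
    by_cases he : m.support = ∅
    · simp [g, he]
    · obtain ⟨x, hx⟩ := Finset.nonempty_iff_ne_empty.2 he
      exact (ne_zero_ord_of_hasValueAt hdim (hg x hx)).1
  exact ⟨g, ⟨Finsupp.ofSupportFinite (fun x => x.ord g) (finite_ord_ne_zero hdim g),
    fun x hx => (ne_zero_ord_of_hasValueAt hdim (hg x hx)).2⟩, ⟨hg0, fun x => rfl⟩, hg⟩

include hdim hm in
theorem mk_eq_zero_iff {g : X.functionField} {D : divAway c m} (hgD : IsDivOf c (D : LocSym.Pt c →₀ ℤ) g)
    {v : LocSym.Pt c → kˣ} (hv : ∀ x ∈ m.support, LocSym.HasValueAt x g (v x : k)) :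
    (QuotientAddGroup.mk D : PicMod c m) = 0 ↔ ∃ a : kˣ, ∀ x ∈ m.support, v x = a := by
  obtain ⟨hg0, hD⟩ := hgD
  constructor
  · intro h
    obtain ⟨h', ⟨hh0, hhD⟩, hh1⟩ := exists_div_of_mem_principalMod hdim m hm ((QuotientAddGroup.eq_zero_iff _).1 h)
    have hq : g / h' ∈ FunFld.L (0 : FunFld.Divisor k X.functionField) := fun P => by
      obtain ⟨x, rfl⟩ := plc_surjective (k := k) hdim P
      rw [Finsupp.coe_zero, Pi.zero_apply, FF.v_le_exp_iff _ (div_ne_zero hg0 hh0), neg_zero, div_eq_mul_inv,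
        FF.ord_mul _ hg0 (inv_ne_zero hh0), FF.ord_inv, ← ord_eq hdim, ← ord_eq hdim, ← hhD, hD, add_neg_cancel]
    rw [FF.L_zero (isFF (k := k) hdim), Submodule.mem_one] at hq
    obtain ⟨a, ha⟩ := hq
    have ha0 : a ≠ 0 := fun h0 => div_ne_zero hg0 hh0 (by rw [← ha, h0, map_zero])
    refine ⟨Units.mk0 a ha0, fun x hx => Units.ext ?_⟩
    have e := hasValueAt_mul hdim (hasValueAt_const hdim x a) (hh1 x hx)
    rw [ha, div_mul_cancel₀ _ hh0, Units.val_one, mul_one] at e
    exact hasValueAt_unique hdim (hv x hx) e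
  · rintro ⟨a, ha⟩
    refine (QuotientAddGroup.eq_zero_iff _).2 (AddSubgroup.subset_closure
      ⟨algebraMap k X.functionField (↑a⁻¹ : k) * g, ⟨mul_ne_zero ((map_ne_zero _).2 a⁻¹.ne_zero) hg0, fun x => ?_⟩,
        fun x hx => (cong_iff hdim m hm _ hx).2 ?_⟩)
    · rw [ord_mul hdim x ((map_ne_zero _).2 a⁻¹.ne_zero) hg0, ← constFun_eq, ord_const hdim, zero_add]
      exact hD x
    · have e := hasValueAt_mul hdim (hasValueAt_const hdim x (↑a⁻¹ : k)) (hv x hx)
      rw [ha x hx, Units.inv_mul] at e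
      simpa using e

end Groth.Agent.LocSymLib
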