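import Groth.Agent.LocSymLib.Basic
import Groth.Agent.FF.RR

/-!
# Moduli and local symbols
-/

set_option autoImplicit false
set_option backward.isDefEq.respectTransparency false
set_option backward.isDefEq.respectTransparency.types false
set_option linter.style.haveILetI false
set_option maxHeartbeats 1000000

universe v u

open CategoryTheory CategoryTheory.Limits AlgebraicGeometry TopologicalSpace

noncomputable section

namespace Groth.Agent.LocSymLib

attribute [local instance] Curv2.stalkAlgebra
attribute [local instance high] FunFld.Place.algRes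

variable {k : Type u} [Field k] [IsAlgClosed k] {X : Scheme.{u}} [X.Over (Spec (CommRingCat.of k))]
  [IsProper (X ↘ Spec (CommRingCat.of k))] [IsIntegral X]
  [Smooth (X ↘ Spec (CommRingCat.of k))] [VBLib.IsRegCurve X] (hdim : topologicalKrullDim X = 1)

local notation "c" => (X ↘ Spec (CommRingCat.of k))

include hdim in
theorem ord_neg (x : LocSym.Pt c) (g : X.functionField) : x.ord (-g) = x.ord g := by
  simp only [ord_eq hdim, FunFld.Place.ord, Valuation.map_neg]

include hdim in
theorem ord_eq_zero_of_cong {x : LocSym.Pt c} {g : X.functionField}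
    (h : g = 1 ∨ 0 < x.ord (1 - g)) : g ≠ 0 ∧ x.ord g = 0 := by
  rcases h with rfl | h
  · exact ⟨one_ne_zero, ord_one hdim x⟩
  have hw : -(1 - g) ≠ 0 := fun h0 => by
    rw [neg_eq_zero] at h0
    rw [h0, ord_zero hdim x] at h
    omega
  have h' : 0 < (plc hdim x).ord (-(1 - g)) := by
    rw [← ord_eq hdim, ord_neg hdim]
    exact h
  obtain ⟨a, b⟩ := FF.ord_one_add_of_pos _ hw h'
  rw [show (1 : X.functionField) + -(1 - g) = g by ring] at a b
  exact ⟨a, by rw [ord_eq hdim]; exact b⟩

/-- The congruence subgroup at a rational point. -/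
def U (hdim : topologicalKrullDim X = 1) (x : LocSym.Pt c) (n : ℕ) (hn : 1 ≤ n) : Subgroup (X.functionField)ˣ where
  carrier := {g | (plc hdim x).1 (1 - (g : X.functionField)) ≤ WithZero.exp (-(n : ℤ))}
  one_mem' := by simp
  mul_mem' {g h} hg hh := by
    simp only [Set.mem_ofPred_eq, Units.val_mul] at hg hh ⊢
    have h1 : (1 : X.functionField) - g * h = (1 - g) + g * (1 - h) := by ring
    have hg1 : (plc hdim x).1 (g : X.functionField) ≤ 1 := by
      have : (g : X.functionField) = 1 - (1 - g) := by ring
      rw [this]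
      refine ((plc hdim x).1.map_sub _ _).trans (max_le (by rw [map_one]) (hg.trans ?_))
      rw [← WithZero.exp_zero, WithZero.exp_le_exp]
      omega
    rw [h1]
    refine ((plc hdim x).1.map_add _ _).trans (max_le hg ?_)
    rw [map_mul]
    exact (mul_le_mul' hg1 hh).trans (by rw [one_mul])
  inv_mem' {g} hg := by
    simp only [Set.mem_ofPred_eq, Units.val_inv_eq_inv_val] at hg ⊢
    have hg1 : (plc hdim x).1 (g : X.functionField) = 1 := by
      have h2 : (plc hdim x).1 (-(1 - (g : X.functionField))) < (plc hdim x).1 1 := by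
        rw [Valuation.map_neg, map_one]
        refine hg.trans_lt ?_
        rw [show (1 : WithZero (Multiplicative ℤ)) = WithZero.exp 0 from WithZero.exp_zero.symm, WithZero.exp_lt_exp]
        omega
      rw [show (g : X.functionField) = 1 + -(1 - g) by ring, (plc hdim x).1.map_add_eq_of_lt_left h2, map_one]
    rw [show (1 : X.functionField) - (g : X.functionField)⁻¹ = -((1 - g) * (g : X.functionField)⁻¹) by
      field_simp; ring, Valuation.map_neg, map_mul, map_inv₀, hg1, inv_one, mul_one]
    exact hg

include hdim in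
theorem mem_U_iff (x : LocSym.Pt c) {n : ℕ} (hn : 1 ≤ n) (g : (X.functionField)ˣ) :
    g ∈ U hdim x n hn ↔ (g : X.functionField) = 1 ∨ (n : ℤ) ≤ x.ord (1 - (g : X.functionField)) := by
  show (plc hdim x).1 _ ≤ _ ↔ _
  by_cases h : (1 : X.functionField) - g = 0
  · simp [h, (sub_eq_zero.1 h).symm]
  · rw [FF.v_le_exp_iff _ h, neg_neg, ← ord_eq hdim]
    exact ⟨Or.inr, fun h' => h'.resolve_left fun h1 => h (by rw [h1, sub_self])⟩

include hdim in
theorem mem_U_of_le {x : LocSym.Pt c} {n n' : ℕ} (hn : 1 ≤ n) (hn' : 1 ≤ n') (h : n ≤ n')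
    {g : (X.functionField)ˣ} (hg : g ∈ U hdim x n' hn') : g ∈ U hdim x n hn :=
  le_trans (show (plc hdim x).1 _ ≤ _ from hg) (WithZero.exp_le_exp.2 (by omega))

include hdim in
theorem ord_of_mem_U {x : LocSym.Pt c} {n : ℕ} (hn : 1 ≤ n) {g : (X.functionField)ˣ} (hg : g ∈ U hdim x n hn) :
    x.ord (g : X.functionField) = 0 :=
  (ord_eq_zero_of_cong hdim (((mem_U_iff hdim x hn g).1 hg).imp id fun h => by omega)).2

variable {G : Type v} [CommGroup G] (m : LocSym.Pt (X ↘ Spec (CommRingCat.of k)) →₀ ℕ)
  (f : LocSym.Pt (X ↘ Spec (CommRingCat.of k)) → G)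

/-- A function congruent to `g` at one point and to `1` at the other points of the modulus. -/
def Approx (x : LocSym.Pt c) (g h : (X.functionField)ˣ) : Prop :=
  (∀ hn : 1 ≤ m x, g / h ∈ U hdim x (m x) hn) ∧ ∀ y ∈ m.support, y ≠ x → ∀ hn : 1 ≤ m y, h ∈ U hdim y (m y) hn

include hdim in
theorem exists_approx_one (S : Finset (LocSym.Pt c)) (x : LocSym.Pt c) (g : (X.functionField)ˣ)
    (n : LocSym.Pt c → ℕ) (hn : ∀ y, 1 ≤ n y) :
    ∃ h : (X.functionField)ˣ, g / h ∈ U hdim x (n x) (hn x) ∧
      ∀ y ∈ S, y ≠ x → h ∈ U hdim y (n y) (hn y) := by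
  classical
  let N : LocSym.Pt c → ℕ := fun y => if y = x then (x.ord (g : X.functionField)).natAbs + n x else n y
  obtain ⟨z, hz⟩ := exists_approx hdim (insert x S) (fun y => if y = x then (g : X.functionField) else 1) N
  have hzx := hz x (Finset.mem_insert_self _ _)
  simp only [if_pos, N] at hzx
  have hgx : ∃ w : X.functionField, z = g * w ∧ (w = 1 ∨ (n x : ℤ) ≤ x.ord (1 - w)) := by
    refine ⟨z / g, by field_simp, ?_⟩
    rcases hzx with h | h
    · exact Or.inl (by rw [h, div_self g.ne_zero])
    · refine Or.inr ?_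
      have h0 : z - g ≠ 0 := fun h0 => by
        rw [h0, ord_zero hdim] at h
        have := hn x
        omega
      rw [show (1 : X.functionField) - z / g = (-1) * ((z - g) * (g : X.functionField)⁻¹) by field_simp; ring,
        ord_mul hdim x (by norm_num) (mul_ne_zero h0 (inv_ne_zero g.ne_zero)), ord_mul hdim x h0 (inv_ne_zero g.ne_zero),
        ord_inv hdim]
      have e : x.ord (-1 : X.functionField) = 0 := by
        rw [show (-1 : X.functionField) = LocSym.constFun c (-1) by rw [constFun_eq, map_neg, map_one], ord_const hdim]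
      omega
  obtain ⟨w, hw, hw1⟩ := hgx
  obtain ⟨hw0, -⟩ := ord_eq_zero_of_cong hdim (x := x) (hw1.imp id fun h => by have := hn x; omega)
  refine ⟨g * Units.mk0 w hw0, ?_, fun y hy hyx => ?_⟩
  · rw [div_mul_cancel_left]
    exact inv_mem ((mem_U_iff hdim x (hn x) _).2 hw1)
  · have hzy := hz y (Finset.mem_insert_of_mem hy)
    simp only [if_neg hyx, N] at hzy
    refine (mem_U_iff hdim y (hn y) _).2 ?_
    rw [Units.val_mul, Units.val_mk0, ← hw]
    refine hzy.imp id fun h => ?_
    rw [show (1 : X.functionField) - z = LocSym.constFun c (-1) * (z - 1) by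
      rw [constFun_eq, map_neg, map_one]; ring]
    by_cases h0 : z - 1 = 0
    · rw [h0, ord_zero hdim] at h
      rw [h0, mul_zero, ord_zero hdim]
      exact h
    · rw [ord_mul hdim y (by rw [constFun_eq, map_neg, map_one]; norm_num) h0, ord_const hdim, zero_add]
      exact h

include hdim in
theorem evalDiv_mul (g h : (X.functionField)ˣ) :
    LocSym.evalDiv m f ((g * h : (X.functionField)ˣ) : X.functionField) =
      LocSym.evalDiv m f (g : X.functionField) * LocSym.evalDiv m f (h : X.functionField) := by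
  classical
  rw [LocSym.evalDiv, LocSym.evalDiv, LocSym.evalDiv,
    ← finprod_mul_distrib (finite_evalDiv hdim m f _) (finite_evalDiv hdim m f _)]
  refine finprod_congr fun x => ?_
  split_ifs
  · rw [one_mul]
  · rw [Units.val_mul, ord_mul hdim x g.ne_zero h.ne_zero, zpow_add]

/-- The product of `f` over the divisor as a homomorphism. -/
def evalHom : (X.functionField)ˣ →* G :=
  MonoidHom.mk' (fun g => LocSym.evalDiv m f (g : X.functionField)) (evalDiv_mul hdim m f)

include hdim in
theorem one_le_of_mem {x : LocSym.Pt c} (hx : x ∈ m.support) : 1 ≤ m x :=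
  Nat.one_le_iff_ne_zero.2 (Finsupp.mem_support_iff.1 hx)

include hdim in
theorem evalHom_eq_one (hm : LocSym.IsModulus f m) (g : (X.functionField)ˣ)
    (hg : ∀ y ∈ m.support, ∀ hn : 1 ≤ m y, g ∈ U hdim y (m y) hn) : evalHom hdim m f g = 1 :=
  hm _ g.ne_zero fun y hy => (mem_U_iff hdim y (one_le_of_mem hdim m hy) g).1 (hg y hy _)

include hdim in
theorem evalHom_congr (hm : LocSym.IsModulus f m) {x : LocSym.Pt c} (hx : x ∈ m.support) {g h h' : (X.functionField)ˣ}
    (ha : Approx hdim m x g h) (ha' : Approx hdim m x g h') : evalHom hdim m f h = evalHom hdim m f h' := by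
  rw [← div_eq_one, ← map_div]
  refine evalHom_eq_one hdim m f hm _ fun y hy hn => ?_
  rcases eq_or_ne y x with rfl | hne
  · rw [show h / h' = (g / h') / (g / h) by rw [div_div_div_cancel_left]]
    exact div_mem (ha'.1 hn) (ha.1 hn)
  · exact div_mem (ha.2 y hy hne hn) (ha'.2 y hy hne hn)

include hdim in
theorem exists_Approx (x : LocSym.Pt c) (g : (X.functionField)ˣ) : ∃ h, Approx hdim m x g h := by
  classical
  obtain ⟨h, h1, h2⟩ := exists_approx_one hdim m.support x g (fun y => max (m y) 1) fun y => le_max_right _ _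
  exact ⟨h, fun hn => mem_U_of_le hdim hn _ (le_max_left _ _) h1,
    fun y hy hyx hn => mem_U_of_le hdim hn _ (le_max_left _ _) (h2 y hy hyx)⟩

include hdim in
/-- A modulus has a local symbol. -/
theorem exists_isLocalSymbol (hm : LocSym.IsModulus f m) :
    ∃ σ : LocSym.Pt c → (X.functionField)ˣ →* G, LocSym.IsLocalSymbol f m σ := by
  classical
  choose a ha using exists_Approx hdim m
  have hmul : ∀ x ∈ m.support, ∀ g g', evalHom hdim m f (a x (g * g')) = evalHom hdim m f (a x g) * evalHom hdim m f (a x g') :=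
    fun x hx g g' => by
      rw [← map_mul]
      refine evalHom_congr hdim m f hm hx (ha x _) ⟨fun hn => ?_, fun y hy hne hn => mul_mem ((ha x g).2 y hy hne hn) ((ha x g').2 y hy hne hn)⟩
      rw [mul_div_mul_comm]
      exact mul_mem ((ha x g).1 hn) ((ha x g').1 hn)
  let σ : LocSym.Pt c → (X.functionField)ˣ →* G := fun x =>
    if hx : x ∈ m.support then (MonoidHom.mk' (fun g => (evalHom hdim m f (a x g))) (hmul x hx))⁻¹
    else MonoidHom.mk' (fun g => f x ^ x.ord (g : X.functionField))
      (fun g g' => by rw [Units.val_mul, ord_mul hdim x g.ne_zero g'.ne_zero, zpow_add])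
  have hin : ∀ x (hx : x ∈ m.support) g, σ x g = (evalHom hdim m f (a x g))⁻¹ := fun x hx g => by
    simp only [σ, dif_pos hx]; rfl
  have hout : ∀ x (hx : x ∉ m.support) g, σ x g = f x ^ x.ord ((g : (X.functionField)ˣ) : X.functionField) := fun x hx g => by
    simp only [σ, dif_neg hx]; rfl
  have hfin : ∀ g, (Function.mulSupport fun x => σ x g).Finite := fun g => by
    refine (m.support.finite_toSet.union (finite_ord_ne_zero hdim (g : X.functionField))).subset fun x hx => ?_
    by_contra h
    simp only [Set.mem_union, Finset.mem_coe, Set.mem_ofPred_eq, not_or, not_not] at h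
    exact hx (by show σ x g = 1; rw [hout x h.1, h.2, zpow_zero])
  refine ⟨σ, ⟨fun x hx g hg => ?_, fun x hx g => hout x hx g, hfin, fun g => ?_⟩⟩
  · rw [hin x hx, inv_eq_one]
    refine (evalHom_congr hdim m f hm hx (ha x g) ⟨fun hn => ?_, fun y hy hne hn => one_mem _⟩).trans (map_one _)
    rw [div_one]
    exact (mem_U_iff hdim x hn g).2 hg
  · have hP : evalHom hdim m f (g / ∏ y ∈ m.support, a y g) = 1 := by
      refine evalHom_eq_one hdim m f hm _ fun y hy hn => ?_
      rw [← Finset.mul_prod_erase _ _ hy, ← div_div]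
      exact div_mem ((ha y g).1 hn)
        (Subgroup.prod_mem _ fun z hz => (ha z g).2 y hy (Finset.ne_of_mem_erase hz).symm hn)
    rw [map_div, div_eq_one, map_prod] at hP
    have hsplit : ∀ x, σ x g = (if x ∈ m.support then σ x g else 1) *
        (if x ∈ m.support then 1 else f x ^ x.ord (g : X.functionField)) := fun x => by
      split_ifs with hx
      · rw [mul_one]
      · rw [one_mul, hout x hx]
    rw [finprod_congr hsplit, finprod_mul_distrib (m.support.finite_toSet.subset fun x hx => by
      by_contra h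
      exact hx (if_neg h)) (finite_evalDiv hdim m f _),
      finprod_eq_prod_of_mulSupport_subset _ (s := m.support) fun x hx => by
        by_contra h
        exact hx (if_neg h)]
    show _ * evalHom hdim m f g = 1
    rw [hP, Finset.prod_congr rfl fun x hx => (if_pos hx).trans (hin x hx g), Finset.prod_inv_distrib,
      inv_mul_cancel]

include hdim in
theorem isModulus_of_symbol {σ : LocSym.Pt c → (X.functionField)ˣ →* G} (hσ : LocSym.IsLocalSymbol f m σ) :
    LocSym.IsModulus f m := by
  classical
  intro g hg hc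
  rw [← hσ.finprod_eq_one (Units.mk0 g hg), LocSym.evalDiv]
  refine finprod_congr fun x => ?_
  split_ifs with hx
  · rw [hσ.eq_one_of_cong x hx _ (hc x hx)]
  · rw [hσ.eq_pow_of_notMem x hx]
    rfl

include hdim in
theorem symbol_unique (n : LocSym.Pt c →₀ ℕ) {σ τ : LocSym.Pt c → (X.functionField)ˣ →* G}
    (hσ : LocSym.IsLocalSymbol f m σ) (hτ : LocSym.IsLocalSymbol f n τ) : σ = τ := by
  classical
  funext x
  refine MonoidHom.ext fun g => ?_
  let N : LocSym.Pt c → ℕ := fun y => max (max (m y) (n y)) 1
  obtain ⟨h, h1, h2⟩ := exists_approx_one hdim (m.support ∪ n.support) x g N fun y => le_max_right _ _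
  have aux : ∀ (m' : LocSym.Pt c →₀ ℕ) (σ' : LocSym.Pt c → (X.functionField)ˣ →* G), LocSym.IsLocalSymbol f m' σ' →
      (∀ y, m' y ≤ N y) → σ' x g = σ' x h ∧ ∀ y ∈ m.support ∪ n.support, y ≠ x → σ' y h = 1 := by
    intro m' σ' hs hle
    have one_of : ∀ y (q : (X.functionField)ˣ), q ∈ U hdim y (N y) (le_max_right _ _) → σ' y q = 1 := fun y q hq => by
      by_cases hy : y ∈ m'.support
      · exact hs.eq_one_of_cong y hy q
          ((mem_U_iff hdim y (one_le_of_mem hdim m' hy) q).1 (mem_U_of_le hdim _ _ (hle y) hq))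
      · rw [hs.eq_pow_of_notMem y hy, ord_of_mem_U hdim _ hq, zpow_zero]
    refine ⟨?_, fun y hy hyx => one_of y h (h2 y hy hyx)⟩
    rw [← div_eq_one, ← map_div]
    exact one_of x _ h1
  obtain ⟨a1, a2⟩ := aux m σ hσ fun y => le_trans (le_max_left _ _) (le_max_left _ _)
  obtain ⟨b1, b2⟩ := aux n τ hτ fun y => le_trans (le_max_right _ _) (le_max_left _ _)
  rw [a1, b1]
  have other : ∀ y, y ≠ x → σ y h = τ y h := fun y hyx => by
    by_cases hy : y ∈ m.support ∪ n.support
    · rw [a2 y hy hyx, b2 y hy hyx]
    · rw [Finset.mem_union, not_or] at hy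
      rw [hσ.eq_pow_of_notMem y hy.1, hτ.eq_pow_of_notMem y hy.2]
  have hq : ∏ᶠ y, σ y h / τ y h = 1 := by
    rw [finprod_div_distrib (hσ.mulSupport_finite h) (hτ.mulSupport_finite h), hσ.finprod_eq_one h,
      hτ.finprod_eq_one h, div_one]
  rw [finprod_eq_single _ x fun y hy => by rw [other y hy, div_self']] at hq
  exact div_eq_one.1 hq

include hdim in
theorem evalDiv_eq_div (g : X.functionField) :
    LocSym.evalDiv m f g = LocSym.evalZeros m f g / LocSym.evalPoles m f g := by
  classical
  have hsub : ∀ e : ℤ → ℕ, e 0 = 0 → (Function.mulSupport fun y : LocSym.Pt c =>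
      if y ∈ m.support then (1 : G) else f y ^ e (y.ord g)).Finite := fun e he =>
    (finite_ord_ne_zero hdim g).subset fun y hy h => hy (by
      show (if y ∈ m.support then (1 : G) else f y ^ e (y.ord g)) = 1
      rw [h, he, pow_zero, ite_self])
  rw [LocSym.evalDiv, LocSym.evalZeros, LocSym.evalPoles,
    ← finprod_div_distrib (hsub (fun e => (max e 0).toNat) rfl) (hsub (fun e => (max (-e) 0).toNat) rfl)]
  refine finprod_congr fun y => ?_
  split_ifs
  · rw [div_one]
  · rw [← zpow_natCast (f y), ← zpow_natCast (f y), div_eq_mul_inv, ← zpow_neg, ← zpow_add]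
    congr 1
    omega

include hdim in
theorem ord_eq_zero_of_no_pole {g : X.functionField} (hg : g ≠ 0) (h : ∀ x : LocSym.Pt c, 0 ≤ x.ord g)
    (x : LocSym.Pt c) : x.ord g = 0 := by
  classical
  have hK := isFF (k := k) hdim
  by_contra hne
  have hpos : 1 ≤ (plc hdim x).ord g := by
    have := h x
    rw [← ord_eq hdim]
    omega
  have hle : Finsupp.single (plc hdim x) (1 : ℤ) ≤ FunFld.div k g := fun P => by
    obtain ⟨y, rfl⟩ := plc_surjective (k := k) hdim P
    rw [FF.div_apply hK, Finsupp.single_apply]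
    split_ifs with he
    · rw [← he]; exact hpos
    · rw [← ord_eq hdim]; exact h y
  have hd := FF.deg_nonneg (sub_nonneg.2 hle)
  rw [FF.deg_sub, FF.deg_div hK, FF.deg_single, one_mul] at hd
  have := FF.deg_pos hK (plc hdim x)
  omega

include hdim in
/-- The criterion with zeros and poles. -/
theorem isModulus_iff_zeros_poles :
    LocSym.IsModulus f m ↔
      ∀ g : X.functionField, g ≠ 0 → (∃ x : LocSym.Pt c, x.ord g < 0) →
        (∀ x ∈ m.support, (m x : ℤ) ≤ x.ord g) →
          ∀ a : k, a ≠ 0 → LocSym.evalZeros m f (g - LocSym.constFun c a) = LocSym.evalPoles m f g := by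
  classical
  have hpole : ∀ (g : X.functionField) (a : k), a ≠ 0 →
      LocSym.evalPoles m f (g - LocSym.constFun c a) = LocSym.evalPoles m f g := fun g a ha => by
    refine finprod_congr fun y => ?_
    have key : max (-y.ord (g - LocSym.constFun c a)) 0 = max (-y.ord g) 0 := by
      set w := LocSym.constFun c a with hw
      have hw0 : w ≠ 0 := by rw [hw, constFun_eq]; exact (map_ne_zero _).2 ha
      rcases lt_or_ge (y.ord g) 0 with hlt | hge
      · have hg0 : g ≠ 0 := fun h => by rw [h, ord_zero hdim] at hlt; omega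
        have h1 : (plc hdim y).ord (-g * w⁻¹) < 0 := by
          rw [← ord_eq hdim, neg_mul, ord_neg hdim,
            ord_mul hdim y hg0 (inv_ne_zero hw0), ord_inv hdim, hw, ord_const hdim]
          omega
        obtain ⟨h2, h3⟩ := FF.ord_one_add_of_neg _ h1
        rw [← ord_eq hdim, ← ord_eq hdim] at h3
        have e2 : g - w = LocSym.constFun c (-a) * (1 + -g * w⁻¹) := by
          rw [constFun_eq, map_neg, ← constFun_eq, ← hw]; field_simp; ring
        rw [e2, ord_mul hdim y (by rw [constFun_eq]; exact (map_ne_zero _).2 (neg_ne_zero.2 ha)) h2, ord_const hdim, h3,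
          neg_mul, ord_neg hdim,
          ord_mul hdim y hg0 (inv_ne_zero hw0), ord_inv hdim, hw, ord_const hdim]
        omega
      · have hv : (plc hdim y).1 (g - w) ≤ 1 := by
          refine ((plc hdim y).1.map_sub _ _).trans (max_le ?_ ?_)
          · by_cases hg0 : g = 0
            · simp [hg0]
            · rw [FF.v_le_one_iff _ hg0, ← ord_eq hdim]; exact hge
          · rw [FF.v_le_one_iff _ hw0, ← ord_eq hdim, hw, ord_const hdim]
        have : 0 ≤ y.ord (g - w) := by
          by_cases h0 : g - w = 0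
          · rw [h0, ord_zero hdim]
          · rw [ord_eq hdim]; exact (FF.v_le_one_iff _ h0).1 hv
        omega
    rw [key]
  refine ⟨fun hm g hg hp hcong a ha => ?_, fun h g hg hc => ?_⟩
  · have hne : g - LocSym.constFun c a ≠ 0 := fun h0 => by
      obtain ⟨x, hx⟩ := hp
      rw [sub_eq_zero.1 h0, ord_const hdim] at hx
      omega
    have hc0 : LocSym.constFun c (-a⁻¹) ≠ 0 := by
      rw [constFun_eq]; exact (map_ne_zero _).2 (neg_ne_zero.2 (inv_ne_zero ha))
    have h1 := hm (LocSym.constFun c (-a⁻¹) * (g - LocSym.constFun c a)) (mul_ne_zero hc0 hne) fun x hx => by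
      refine Or.inr ?_
      have e : (1 : X.functionField) - LocSym.constFun c (-a⁻¹) * (g - LocSym.constFun c a) =
          LocSym.constFun c a⁻¹ * g := by
        have ha' : (algebraMap k X.functionField) a ≠ 0 := (map_ne_zero _).2 ha
        simp only [constFun_eq, map_neg, map_inv₀]
        field_simp
        ring
      rw [e, ord_mul hdim x (by rw [constFun_eq]; exact (map_ne_zero _).2 (inv_ne_zero ha)) hg, ord_const hdim, zero_add]
      exact hcong x hx
    have h2 : LocSym.evalDiv m f (LocSym.constFun c (-a⁻¹) * (g - LocSym.constFun c a)) =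
        LocSym.evalDiv m f (g - LocSym.constFun c a) := finprod_congr fun y => by
      rw [ord_mul hdim y hc0 hne, ord_const hdim, zero_add]
    rw [h2, evalDiv_eq_div hdim, hpole g a ha, div_eq_one] at h1
    exact h1
  · by_cases hp : ∃ x : LocSym.Pt c, x.ord g < 0
    · obtain ⟨x₀, hx₀⟩ := hp
      have hg1 : (1 : X.functionField) - g ≠ 0 := fun h0 => by
        rw [← sub_eq_zero.1 h0, ord_one hdim] at hx₀
        omega
      have hp1 : x₀.ord (1 - g) < 0 := by
        have h1 : (plc hdim x₀).ord (-g) < 0 := by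
          rw [← ord_eq hdim, ord_neg hdim]; exact hx₀
        obtain ⟨-, h3⟩ := FF.ord_one_add_of_neg _ h1
        rw [← sub_eq_add_neg] at h3
        rw [ord_eq hdim, h3]
        exact h1
      have hcong : ∀ x ∈ m.support, (m x : ℤ) ≤ x.ord (1 - g) := fun x hx =>
        (hc x hx).resolve_left fun he => by rw [he, ord_one hdim] at hx₀; omega
      have h1 := h (1 - g) hg1 ⟨x₀, hp1⟩ hcong 1 one_ne_zero
      rw [← hpole (1 - g) 1 one_ne_zero] at h1
      have e : (1 : X.functionField) - g - LocSym.constFun c 1 = -g := by rw [map_one]; ring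
      rw [e] at h1
      have hneg : LocSym.evalDiv m f g = LocSym.evalDiv m f (-g) := finprod_congr fun y => by
        rw [ord_neg hdim]
      rw [hneg, evalDiv_eq_div hdim, h1, div_self']
    · push Not at hp
      exact finprod_eq_one_of_forall_eq_one fun y => by
        rw [ord_eq_zero_of_no_pole hdim hg hp y, zpow_zero, ite_self]

end Groth.Agent.LocSymLib
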